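import Groth.Agent.EGA43.RectDepth
import Groth.Agent.CurvesLib24.Basic
import Groth.Agent.ModStalk.Exact
import Groth.Agent.AssSch12.Primary
import Groth.Agent.Props12.FinLocFree
import Groth.Agent.DCat.PullPerf
import Groth.Agent.Coherent.CohBC.HomSheaf
import Groth.Agent.Coherent.CohOps
import Groth.Agent.Coherent.FinitePres
import Groth.Agent.Coherent.RpushSupport

/-!
# Syzygies of coherent modules on regular schemes are locally free
-/

set_option autoImplicit false
set_option backward.isDefEq.respectTransparency false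
set_option linter.style.haveILetI false

universe u

open CategoryTheory CategoryTheory.Limits AlgebraicGeometry

namespace Groth.Agent.SyzygyLF

section Abstract

variable {A : Type*} [Category* A] [Abelian A] (m : ℕ) (S : ComposableArrows A (m + 1)) (hS : S.Exact)
  (hmono : Mono (S.map' 0 1)) (hepi : Epi (S.map' m (m + 1)))

/-- The kernels along a sequence. -/
noncomputable def kerSeq (i : ℕ) (hi : i ≤ m) : A := kernel (S.map' i (i + 1))

include hS

/-- The short exact pieces. -/
theorem exists_kerSeq_shortExact (i : ℕ) (hi : i + 1 ≤ m) :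
    ∃ T : ShortComplex A, T.ShortExact ∧ T.X₁ = kerSeq m S i (by omega) ∧
      T.X₂ = S.obj' i (by omega) ∧ T.X₃ = kerSeq m S (i + 1) hi := by
  let a := S.map' i (i + 1)
  let b := S.map' (i + 1) (i + 1 + 1)
  have hz : a ≫ b = 0 := hS.toIsComplex.zero i (by omega)
  haveI : Epi (kernel.lift b a hz) :=
    (ShortComplex.exact_iff_epi_kernel_lift _).1 (hS.exact i (by omega))
  have hz' : kernel.ι a ≫ kernel.lift b a hz = 0 := by rw [← cancel_mono (kernel.ι b)]; simp
  refine ⟨ShortComplex.mk (kernel.ι a) (kernel.lift b a hz) hz',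
    { exact := ?_, mono_f := show Mono (kernel.ι a) from inferInstance, epi_g := ‹_› }, rfl, rfl, rfl⟩
  exact (ShortComplex.exact_iff_of_epi_of_isIso_of_mono
    (S₁ := ShortComplex.mk (kernel.ι a) (kernel.lift b a hz) hz')
    (S₂ := ShortComplex.mk (kernel.ι a) a (kernel.condition _))
    { τ₁ := 𝟙 _, τ₂ := 𝟙 _, τ₃ := kernel.ι b, comm₁₂ := by simp, comm₂₃ := by simp }).2
    (ShortComplex.exact_of_f_is_kernel _ (kernelIsKernel _))

include hmono in
/-- The first object is the kernel of the second map. -/
theorem nonempty_first_iso (hm : 1 ≤ m) : Nonempty (S.obj' 0 (by omega) ≅ kerSeq m S 1 hm) := by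
  have hz : S.map' 0 1 ≫ S.map' 1 2 = 0 :=
    hS.toIsComplex.zero 0 (by omega)
  haveI : Mono (S.map' 0 1) := hmono
  exact ⟨(hS.exact 0 (by omega)).fIsKernel.conePointUniqueUpToIso (limit.isLimit _)⟩

include hmono hepi in
theorem projective_first (hP : ∀ i, 1 ≤ i → (hi : i ≤ m) → Projective (S.obj' i (by omega)))
    (hF : HasProjectiveDimensionLT (S.obj' (m + 1) (by omega)) (m + 1)) :
    Projective (S.obj' 0 (by omega)) := by
  rcases Nat.eq_zero_or_pos m with hm | hm
  · subst hm
    let a := S.map' 0 1
    haveI : Mono a := hmono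
    haveI : Epi a := hepi
    haveI := isIso_of_mono_of_epi a
    haveI : Projective (S.obj' (0 + 1) (by omega)) := projective_iff_hasProjectiveDimensionLT_one.2 hF
    exact Projective.of_iso (asIso a).symm inferInstance
  · have claim : ∀ j i, i + j = m → 1 ≤ i → (hi : i ≤ m) → HasProjectiveDimensionLT (kerSeq m S i hi) i := by
      intro j
      induction j with
      | zero =>
        intro i hij h1 hi
        obtain rfl : i = m := by omega
        haveI : Epi (S.map' i (i + 1)) := hepi
        let T : ShortComplex A := ShortComplex.mk (kernel.ι (S.map' i (i + 1)))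
          (S.map' i (i + 1)) (kernel.condition _)
        have hT : T.ShortExact :=
          { exact := ShortComplex.exact_of_f_is_kernel _ (kernelIsKernel _)
            mono_f := show Mono (kernel.ι _) from inferInstance
            epi_g := ‹_› }
        haveI : Projective T.X₂ := hP i h1 le_rfl
        exact hT.hasProjectiveDimensionLT_X₁ i (hasProjectiveDimensionLT_of_ge T.X₂ 1 i h1) hF
      | succ j ih =>
        intro i hij h1 hi
        obtain ⟨T, hT, e1, e2, e3⟩ := exists_kerSeq_shortExact m S hS i (by omega)
        have h3 := ih (i + 1) (by omega) (by omega) (by omega)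
        rw [← e3] at h3
        rw [← e1]
        haveI : Projective T.X₂ := e2 ▸ hP i h1 hi
        exact hT.hasProjectiveDimensionLT_X₁ i (hasProjectiveDimensionLT_of_ge T.X₂ 1 i h1) h3
    haveI := projective_iff_hasProjectiveDimensionLT_one.2 (claim (m - 1) 1 (by omega) le_rfl hm)
    obtain ⟨v⟩ := nonempty_first_iso m S hS hmono hm
    exact Projective.of_iso v.symm inferInstance

end Abstract

theorem hasProjectiveDimensionLT_of_regular {R : Type u} [CommRing R] [IsRegularLocalRing R]
    (M : ModuleCat.{u} R) [Module.Finite R M] (m : ℕ) (hdim : ringKrullDim R ≤ (m : WithBot ℕ∞)) :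
    HasProjectiveDimensionLT M (m + 1) := by
  rcases subsingleton_or_nontrivial M with h | h
  · haveI := (hasProjectiveDimensionLT_zero_iff_isZero (X := M)).2 (ModuleCat.isZero_of_subsingleton M)
    exact hasProjectiveDimensionLT_of_ge M 0 (m + 1) (by omega)
  · obtain ⟨e, he, δ, -, hδ⟩ := EGA43.RectDepth.exists_pd_eq (R := R) M
    have hle : e ≤ m := by
      rw [← hδ] at hdim
      have : δ + e ≤ m := by exact_mod_cast hdim
      omega
    refine (projectiveDimension_le_iff M m).1 ?_
    rw [show projectiveDimension M = e from he]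
    exact_mod_cast hle

theorem free_stalk {X : Scheme.{u}} [IsLocallyNoetherian X] {E : X.Modules} (hE : FlatMod.IsFinLocFree E) (x : X) :
    Module.Free (X.presheaf.stalk x) (E.presheaf.stalk x) := by
  haveI := AssSch12.finite_stalk (Coherent.CohBC.isCoh_of_isFinLocFree hE) x
  haveI : Module.Flat (X.presheaf.stalk x) (E.presheaf.stalk x) := DCat.PullPerf.isFlat_of_finLocFree hE x
  exact Module.free_of_flat_of_isLocalRing

open Coherent in
theorem isFinLocFree_syzygy {X : Scheme.{u}} [IsNoetherian X]
    (hreg : ∀ x : X, IsRegularLocalRing (X.presheaf.stalk x)) (m : ℕ)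
    (hdim : topologicalKrullDim ↥X ≤ (m : WithBot ℕ∞))
    (S : ComposableArrows X.Modules (m + 1)) (hS : S.Exact)
    (hmono : Mono (S.map' 0 1)) (hepi : Epi (S.map' m (m + 1)))
    (hE : ∀ i, 1 ≤ i → (hi : i ≤ m) → FlatMod.IsFinLocFree (S.obj' i (by omega)))
    (hF : Coh.IsCoh (S.obj' (m + 1) (by omega))) :
    FlatMod.IsFinLocFree (S.obj' 0 (by omega)) := by
  have hG : Coh.IsCoh (S.obj' 0 (by omega)) := by
    rcases Nat.eq_zero_or_pos m with hm | hm
    · subst hm
      let a := S.map' 0 1
      haveI : Mono a := hmono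
      haveI : Epi a := hepi
      haveI := isIso_of_mono_of_epi a
      exact isCoh_of_iso (asIso a).symm hF
    · obtain ⟨v⟩ := nonempty_first_iso m S hS hmono hm
      refine isCoh_of_iso v.symm (isCoh_kernel _ (CohBC.isCoh_of_isFinLocFree (hE 1 le_rfl hm)) ?_)
      rcases Nat.lt_or_ge 1 m with h | h
      · exact (CohBC.isCoh_of_isFinLocFree (hE 2 (by omega) (by omega))).1
      · obtain rfl : m = 1 := by omega
        exact hF.1
  haveI := hG.1
  refine Props12.isFinLocFree_of_isFP_of_free_stalks _ (isFP_of_isCoh hG) fun x => ?_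
  haveI := hreg x
  let Φ := DerSch.stalkFunctor X x
  haveI : Φ.Additive := inferInstance
  let T : ComposableArrows (ModuleCat (X.presheaf.stalk x)) (m + 1) := S ⋙ Φ
  have hT : T.Exact :=
    { zero := fun i hi => by
        refine (Φ.map_comp _ _).symm.trans ?_
        exact (congrArg Φ.map (hS.toIsComplex.zero i hi)).trans (Φ.map_zero _ _)
      exact := fun i hi => (hS.exact i hi).map Φ }
  haveI := hmono
  haveI := hepi
  haveI : Module.Finite (X.presheaf.stalk x) (T.obj' (m + 1)) := AssSch12.finite_stalk hF x
  haveI : Projective (Φ.obj (S.obj' 0 (by omega))) := projective_first m T hT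
    (show Mono (Φ.map (S.map' 0 1)) from inferInstance)
    (show Epi (Φ.map (S.map' m (m + 1))) from inferInstance)
    (fun i h1 hi => by
      haveI : Module.Free (X.presheaf.stalk x) (Φ.obj (S.obj' i (by omega))) := free_stalk (hE i h1 hi) x
      exact (IsProjective.iff_projective (R := X.presheaf.stalk x) (Φ.obj (S.obj' i (by omega)))).1 inferInstance)
    (hasProjectiveDimensionLT_of_regular _ m ((CurvesLib24.stalk_dim_le_topologicalKrullDim x).trans hdim))
  haveI : Module.Projective (X.presheaf.stalk x) (Φ.obj S.left) :=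
    (IsProjective.iff_projective (R := X.presheaf.stalk x) (Φ.obj S.left)).2 inferInstance
  haveI : Module.Finite (X.presheaf.stalk x) (Φ.obj S.left) := AssSch12.finite_stalk hG x
  exact (Module.free_of_flat_of_isLocalRing : Module.Free (X.presheaf.stalk x) (Φ.obj S.left))

end Groth.Agent.SyzygyLF
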